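import Groth.Agent.DerAdj.Basic

/-!
Morphisms detected by a single cohomology object.
-/

universe w v u

open CategoryTheory Limits Pretriangulated DerivedCategory

namespace Groth.Agent.TruncFactor

variable {A : Type u} [Category.{v} A] [Abelian A] [HasDerivedCategory.{w} A]

local notation "H" => DerivedCategory.homologyFunctor A
local notation "tA" => (DerivedCategory.TStructure.t : Triangulated.TStructure (DerivedCategory A))

theorem eq_zero_of_pure {X Y : DerivedCategory A} (m : ℤ) [X.IsGE m] [X.IsLE m] [Y.IsGE m] [Y.IsLE m]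
    (φ : X ⟶ Y) (h : (H m).map φ = 0) : φ = 0 := by
  obtain ⟨M, ⟨eX⟩⟩ := exists_iso_singleFunctor_obj_of_isGE_of_isLE X m
  obtain ⟨N, ⟨eY⟩⟩ := exists_iso_singleFunctor_obj_of_isGE_of_isLE Y m
  obtain ⟨f, hf⟩ := (singleFunctor A m).map_surjective (eX.inv ≫ φ ≫ eY.hom)
  have h1 : (H m).map ((singleFunctor A m).map f) = 0 := by
    rw [hf, Functor.map_comp, Functor.map_comp, h, zero_comp, comp_zero]
  have h2 := (singleFunctorCompHomologyFunctorIso A m).hom.naturality f
  have h3 : f = 0 := by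
    rw [← cancel_epi ((singleFunctorCompHomologyFunctorIso A m).hom.app M), comp_zero]
    exact h2.symm.trans ((congrArg (· ≫ _) h1).trans zero_comp)
  rw [← cancel_epi eX.inv, ← cancel_mono eY.hom, Category.assoc, ← hf, h3, Functor.map_zero, comp_zero, zero_comp]

/-- a map from `≤ m` to `≥ m` vanishes if it vanishes on `H^m` -/
theorem eq_zero_of_homology {X Y : DerivedCategory A} (m : ℤ) (hX : X.IsLE m) (hY : Y.IsGE m)
    (φ : X ⟶ Y) (h : (H m).map φ = 0) : φ = 0 := by
  obtain ⟨T, hT, rfl, h₁, h₃⟩ := DerAdj.exists_truncTriangle X m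
  obtain ⟨T', hT', rfl, h₁', h₃'⟩ := DerAdj.exists_truncTriangle Y (m + 1)
  obtain ⟨ψ, hψ⟩ := Triangle.yoneda_exact₂ T hT φ ((tA).zero_of_isLE_of_isGE _ (m - 1) m (by omega) h₁ hY)
  have hL := DerAdj.isLE_obj₃ hT m _ h₁ h₃ hX
  obtain ⟨χ, hχ⟩ := Triangle.coyoneda_exact₂ T' hT' ψ ((tA).zero_of_isLE_of_isGE _ m (m + 1) (by omega) hL h₃')
  haveI := DerAdj.isIso_mor₂ hT m (isZero_of_isLE T.obj₁ (m - 1) m (by omega))
    (isZero_of_isLE T.obj₁ (m - 1) (m + 1) (by omega))
  haveI := DerAdj.isIso_mor₁ hT' m (isZero_of_isGE T'.obj₃ (m + 1) (m - 1) (by omega))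
    (isZero_of_isGE T'.obj₃ (m + 1) m (by omega))
  have hχ0 : (H m).map χ = 0 := by
    rw [← cancel_mono ((H m).map T'.mor₁), zero_comp, ← Functor.map_comp, ← hχ,
      ← cancel_epi ((H m).map T.mor₂), comp_zero, ← Functor.map_comp, ← hψ, h]
  haveI := h₃
  haveI := hL
  haveI := DerAdj.isGE_obj₁ hT' m _ h₁' h₃' hY
  haveI : T'.obj₁.IsLE m := (tA).isLE_of_le T'.obj₁ (m + 1 - 1) m (by omega)
  rw [hψ, hχ, eq_zero_of_pure m χ hχ0, zero_comp, comp_zero]

theorem isIso_truncLTι (X : DerivedCategory A) (b i : ℤ) (h : i < b) :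
    IsIso ((H i).map (((tA).truncLTι b).app X)) := by
  haveI h₃ : (((tA).truncGE b).obj X).IsGE b := inferInstance
  exact DerAdj.isIso_mor₁ ((tA).triangleLTGE_distinguished b X) i
    (isZero_of_isGE (((tA).truncGE b).obj X) b (i - 1) (by omega))
    (isZero_of_isGE (((tA).truncGE b).obj X) b i (by omega))

theorem isIso_truncGEπ (X : DerivedCategory A) (a i : ℤ) (h : a ≤ i) :
    IsIso ((H i).map (((tA).truncGEπ a).app X)) := by
  haveI h₁ : (((tA).truncLT a).obj X).IsLE (a - 1) := inferInstance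
  exact DerAdj.isIso_mor₂ ((tA).triangleLTGE_distinguished a X) i
    (isZero_of_isLE (((tA).truncLT a).obj X) (a - 1) i (by omega))
    (isZero_of_isLE (((tA).truncLT a).obj X) (a - 1) (i + 1) (by omega))

/-- lifting to the truncation above -/
theorem exists_lift_truncLE {X : DerivedCategory A} (m : ℤ) (hX : X.IsLE m) (L : CochainComplex A ℤ)
    (φ : X ⟶ Q.obj L) : ∃ ψ : X ⟶ Q.obj (L.truncLE m), ψ ≫ Q.map (L.ιTruncLE m) = φ := by
  obtain ⟨T, hT, hobj, h₁, h₃⟩ := DerAdj.exists_truncTriangle (Q.obj L) (m + 1)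
  haveI := h₁
  haveI := h₃
  obtain ⟨_, T₂, _, f, g, h⟩ := T
  subst hobj
  obtain ⟨ψ, hψ⟩ := Triangle.coyoneda_exact₂ _ hT φ ((tA).zero_of_isLE_of_isGE _ m (m + 1) (by omega) hX h₃)
  haveI hle : (Q.obj (L.truncLE m)).IsLE m := inferInstance
  obtain ⟨l, hl⟩ := Triangle.coyoneda_exact₂ _ hT (Q.map (L.ιTruncLE m))
    ((tA).zero_of_isLE_of_isGE _ m (m + 1) (by omega) hle h₃)
  haveI : IsIso l := by
    rw [DerivedCategory.isIso_iff]
    intro i
    by_cases hi : i ≤ m
    · have e := congrArg (H i).map hl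
      rw [Functor.map_comp] at e
      haveI := CochainComplex.quasiIsoAt_ιTruncLE L m i hi
      haveI : IsIso ((H i).map (Q.map (L.ιTruncLE m))) := by
        have := (DerivedCategory.homologyFunctorFactors A i).hom.naturality (L.ιTruncLE m)
        exact ((MorphismProperty.isomorphisms A).arrow_mk_iso_iff
          (Arrow.isoMk ((DerivedCategory.homologyFunctorFactors A i).app _)
            ((DerivedCategory.homologyFunctorFactors A i).app _) this.symm)).2
          ((quasiIsoAt_iff_isIso_homologyMap (L.ιTruncLE m) i).1 inferInstance)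
      haveI := DerAdj.isIso_mor₁ hT i (isZero_of_isGE _ (m + 1) (i - 1) (by omega))
        (isZero_of_isGE _ (m + 1) i (by omega))
      haveI : IsIso ((H i).map l ≫ (H i).map f) := by
        exact e ▸ inferInstance
      exact IsIso.of_isIso_comp_right _ ((H i).map f)
    · exact isIso_of_source_target_iso_zero _ (isZero_of_isLE _ m i (by omega)).isoZero
        (isZero_of_isLE _ (m + 1 - 1) i (by omega)).isoZero
  refine ⟨ψ ≫ inv l, ?_⟩
  rw [hl]
  exact (Category.assoc _ _ _).trans ((congrArg (ψ ≫ ·) (IsIso.inv_hom_id_assoc l _)).trans hψ.symm)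

/-- extending from the truncation below -/
theorem exists_desc_truncGE {X : DerivedCategory A} (m : ℤ) (hX : X.IsGE m) (L : CochainComplex A ℤ)
    (φ : Q.obj L ⟶ X) : ∃ ψ : Q.obj (L.truncGE m) ⟶ X, Q.map (L.πTruncGE m) ≫ ψ = φ := by
  obtain ⟨T, hT, hobj, h₁, h₃⟩ := DerAdj.exists_truncTriangle (Q.obj L) m
  haveI := h₁
  haveI := h₃
  obtain ⟨T₁, T₂, _, f, g, h⟩ := T
  subst hobj
  obtain ⟨ψ, hψ⟩ := Triangle.yoneda_exact₂ _ hT φ ((tA).zero_of_isLE_of_isGE _ (m - 1) m (by omega) h₁ hX)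
  haveI hge : (Q.obj (L.truncGE m)).IsGE m := inferInstance
  obtain ⟨l, hl⟩ := Triangle.yoneda_exact₂ _ hT (Q.map (L.πTruncGE m))
    ((tA).zero_of_isLE_of_isGE _ (m - 1) m (by omega) h₁ hge)
  haveI : IsIso l := by
    rw [DerivedCategory.isIso_iff]
    intro i
    by_cases hi : m ≤ i
    · have e := congrArg (H i).map hl
      rw [Functor.map_comp] at e
      haveI := CochainComplex.quasiIsoAt_πTruncGE L m i hi
      haveI : IsIso ((H i).map (Q.map (L.πTruncGE m))) := by
        have := (DerivedCategory.homologyFunctorFactors A i).hom.naturality (L.πTruncGE m)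
        exact ((MorphismProperty.isomorphisms A).arrow_mk_iso_iff
          (Arrow.isoMk ((DerivedCategory.homologyFunctorFactors A i).app _)
            ((DerivedCategory.homologyFunctorFactors A i).app _) this.symm)).2
          ((quasiIsoAt_iff_isIso_homologyMap (L.πTruncGE m) i).1 inferInstance)
      haveI := DerAdj.isIso_mor₂ hT i (isZero_of_isLE T₁ (m - 1) i (by omega))
        (isZero_of_isLE T₁ (m - 1) (i + 1) (by omega))
      haveI : IsIso ((H i).map g ≫ (H i).map l) := by
        exact e ▸ inferInstance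
      exact IsIso.of_isIso_comp_left ((H i).map g) _
    · exact isIso_of_source_target_iso_zero _ (isZero_of_isGE _ m i (by omega)).isoZero
        (isZero_of_isGE _ m i (by omega)).isoZero
  refine ⟨inv l ≫ ψ, ?_⟩
  rw [hl]
  exact (Category.assoc _ _ _).trans ((congrArg (g ≫ ·) (IsIso.hom_inv_id_assoc l ψ)).trans hψ.symm)

end Groth.Agent.TruncFactor
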